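import Mathlib

/-!
# Transitive groups in which every derangement is an involution

A counting argument: if a finite group acts faithfully and transitively and every fixed-point-free
element squares to the identity, then every non-identity element fixes at most one point.
-/

set_option autoImplicit false

namespace Cfsg.Agent.Lib.Helper20

open MulAction

theorem sum_fix_eq_card {G Ω : Type*} [Group G] [Fintype G] [Fintype Ω] [DecidableEq Ω]
    [MulAction G Ω] [IsPretransitive G Ω] [Nonempty Ω] :
    ∑ g : G, (∑ α : Ω, if g • α = α then 1 else 0) = Fintype.card G := by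
  classical
  rw [Finset.sum_comm]
  have h1 : ∀ α : Ω, (∑ g : G, if g • α = α then 1 else 0) * Fintype.card Ω = Fintype.card G := by
    intro α
    have h2 := (stabilizer G α).card_mul_index
    rw [MulAction.index_stabilizer_of_transitive] at h2
    simp only [Nat.card_eq_fintype_card] at h2
    rw [← h2]
    congr 1
    rw [← Finset.card_filter]
    have h3 : Fintype.card (stabilizer G α) = Fintype.card {g : G // g • α = α} :=
      Fintype.card_congr (Equiv.refl _)
    rw [h3, Fintype.card_subtype]
  have hpos : 0 < Fintype.card Ω := Fintype.card_pos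
  apply Nat.eq_of_mul_eq_mul_right hpos
  rw [Finset.sum_mul, Finset.sum_congr rfl (fun α _ => h1 α)]
  simp [mul_comm]

theorem fix_le_one_of_derangements_sq {G Ω : Type*} [Group G] [Fintype G] [Fintype Ω]
    [DecidableEq Ω] [MulAction G Ω] [FaithfulSMul G Ω] [IsPretransitive G Ω]
    (hinv : ∀ g : G, (∀ ω : Ω, g • ω ≠ ω) → g * g = 1) :
    ∀ g : G, g ≠ 1 → ∀ α β : Ω, g • α = α → g • β = β → α = β := by
  classical
  intro g0 hg0 α0 β0 hα0 hβ0
  have hne : Nonempty Ω := ⟨α0⟩
  set n := Fintype.card Ω with hn
  set φ : G → ℕ := fun g => ∑ α : Ω, if g • α = α then 1 else 0 with hφ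
  have hφn : ∀ g, φ g ≤ n := by
    intro g
    calc φ g ≤ ∑ _α : Ω, 1 := Finset.sum_le_sum (fun α _ => by split_ifs <;> simp)
      _ = n := by simp [hn]
  have hB : ∑ g : G, φ g = Fintype.card G := sum_fix_eq_card
  -- Q
  have hQ : ∑ g : G, φ g * φ g =
      ∑ α : Ω, ∑ β : Ω, ∑ g : G, if (g • α = α ∧ g • β = β) then 1 else 0 := by
    symm
    calc (∑ α : Ω, ∑ β : Ω, ∑ g : G, if (g • α = α ∧ g • β = β) then 1 else 0)
        = ∑ α : Ω, ∑ g : G, ∑ β : Ω, if (g • α = α ∧ g • β = β) then 1 else 0 :=
          Finset.sum_congr rfl (fun α _ => Finset.sum_comm)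
      _ = ∑ g : G, ∑ α : Ω, ∑ β : Ω, if (g • α = α ∧ g • β = β) then 1 else 0 := Finset.sum_comm
      _ = ∑ g : G, φ g * φ g := by
          apply Finset.sum_congr rfl
          intro g _
          rw [hφ]
          simp only
          rw [Finset.sum_mul_sum]
          apply Finset.sum_congr rfl
          intro α _
          apply Finset.sum_congr rfl
          intro β _
          by_cases h1 : g • α = α <;> by_cases h2 : g • β = β <;> simp [h1, h2]
  -- T
  have hT : ∑ g : G, (∑ α : Ω, if g • g • α = α then 1 else 0) =
      ∑ α : Ω, ∑ β : Ω, ∑ g : G, if (g • α = β ∧ g • β = α) then 1 else 0 := by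
    symm
    calc (∑ α : Ω, ∑ β : Ω, ∑ g : G, if (g • α = β ∧ g • β = α) then 1 else 0)
        = ∑ α : Ω, ∑ g : G, ∑ β : Ω, if (g • α = β ∧ g • β = α) then 1 else 0 :=
          Finset.sum_congr rfl (fun α _ => Finset.sum_comm)
      _ = ∑ g : G, ∑ α : Ω, ∑ β : Ω, if (g • α = β ∧ g • β = α) then 1 else 0 := Finset.sum_comm
      _ = ∑ g : G, (∑ α : Ω, if g • g • α = α then 1 else 0) := by
          apply Finset.sum_congr rfl
          intro g _
          apply Finset.sum_congr rfl
          intro α _
          rw [Finset.sum_eq_single (g • α)]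
          · simp
          · intro β _ hβ
            rw [if_neg]
            intro h
            exact hβ h.1.symm
          · intro h; exact absurd (Finset.mem_univ _) h
  have hTQ : (∑ α : Ω, ∑ β : Ω, ∑ g : G, if (g • α = β ∧ g • β = α) then 1 else 0) ≤
      ∑ α : Ω, ∑ β : Ω, ∑ g : G, if (g • α = α ∧ g • β = β) then 1 else 0 := by
    apply Finset.sum_le_sum
    intro α _
    apply Finset.sum_le_sum
    intro β _
    rw [← Finset.card_filter, ← Finset.card_filter]
    by_cases hne : (Finset.univ.filter (fun g : G => g • α = β ∧ g • β = α)).Nonempty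
    · obtain ⟨g₁, hg₁⟩ := hne
      rw [Finset.mem_filter] at hg₁
      apply Finset.card_le_card_of_injOn (fun g => g₁⁻¹ * g)
      · intro g hg
        rw [Finset.mem_coe, Finset.mem_filter] at hg ⊢
        refine ⟨Finset.mem_univ _, ?_, ?_⟩
        · rw [mul_smul, hg.2.1, inv_smul_eq_iff]
          exact hg₁.2.1.symm
        · rw [mul_smul, hg.2.2, inv_smul_eq_iff]
          exact hg₁.2.2.symm
      · intro g _ g' _ h
        exact mul_left_cancel h
    · rw [Finset.not_nonempty_iff_eq_empty] at hne
      rw [hne]
      simp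
  have hTlow : ∀ g : G, (if φ g = 0 then n else φ g) ≤ ∑ α : Ω, if g • g • α = α then 1 else 0 := by
    intro g
    split_ifs with h0
    · have hder : ∀ ω : Ω, g • ω ≠ ω := by
        intro ω hω
        have : 0 < φ g := by
          rw [hφ]
          apply Finset.sum_pos'
          · intro α _; positivity
          · exact ⟨ω, Finset.mem_univ _, by simp [hω]⟩
        omega
      have hgg := hinv g hder
      have : ∀ α : Ω, g • g • α = α := by
        intro α
        rw [← mul_smul, hgg, one_smul]
      simp [this, hn]
    · rw [hφ]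
      apply Finset.sum_le_sum
      intro α _
      by_cases h1 : g • α = α
      · simp [h1]
      · simp [h1]
  -- arithmetic
  set c : G → ℕ := fun g => if φ g = 0 then 0 else (φ g - 1) * (n - φ g) with hc
  have hid : ∀ g : G, c g + φ g * φ g + n = (n + 1) * φ g + (if φ g = 0 then n else 0) := by
    intro g
    rw [hc]
    simp only
    split_ifs with h0
    · rw [h0]; ring
    · have h1 : 1 ≤ φ g := Nat.one_le_iff_ne_zero.mpr h0
      have h2 := hφn g
      obtain ⟨a, ha⟩ := Nat.exists_eq_add_of_le h1
      obtain ⟨b, hb⟩ := Nat.exists_eq_add_of_le h2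
      rw [hb, ha]
      simp only [Nat.add_sub_cancel_left]
      ring
  have hsum : ∑ g : G, c g + ∑ g : G, φ g * φ g + Fintype.card G * n =
      (n + 1) * Fintype.card G + ∑ g : G, (if φ g = 0 then n else 0) := by
    have := Finset.sum_congr (s₁ := (Finset.univ : Finset G)) rfl (fun g _ => hid g)
    rw [Finset.sum_add_distrib, Finset.sum_add_distrib, Finset.sum_add_distrib, ← Finset.mul_sum,
      hB] at this
    simpa using this
  have hlow : ∑ g : G, (if φ g = 0 then n else φ g) ≤ ∑ g : G, φ g * φ g := by
    calc ∑ g : G, (if φ g = 0 then n else φ g)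
        ≤ ∑ g : G, (∑ α : Ω, if g • g • α = α then 1 else 0) :=
          Finset.sum_le_sum (fun g _ => hTlow g)
      _ = _ := hT
      _ ≤ _ := hTQ
      _ = _ := hQ.symm
  have hsplit : ∑ g : G, (if φ g = 0 then n else φ g) =
      ∑ g : G, (if φ g = 0 then n else 0) + Fintype.card G := by
    rw [← hB, ← Finset.sum_add_distrib]
    apply Finset.sum_congr rfl
    intro g _
    split_ifs with h0
    · rw [h0]; rfl
    · rw [zero_add]
  have hczero : ∑ g : G, c g = 0 := by
    have h1 : (n + 1) * Fintype.card G = Fintype.card G * n + Fintype.card G := by ring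
    omega
  have hcg := (Finset.sum_eq_zero_iff.mp hczero) g0 (Finset.mem_univ _)
  by_contra hab
  -- two distinct fixed points
  have hφ2 : 2 ≤ φ g0 := by
    rw [hφ]
    simp only
    rw [← Finset.card_filter]
    have hsub : ({α0, β0} : Finset Ω) ⊆ Finset.univ.filter (fun α : Ω => g0 • α = α) := by
      intro x hx
      rw [Finset.mem_insert, Finset.mem_singleton] at hx
      rw [Finset.mem_filter]
      rcases hx with rfl | rfl
      · exact ⟨Finset.mem_univ _, hα0⟩
      · exact ⟨Finset.mem_univ _, hβ0⟩
    have := Finset.card_le_card hsub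
    rwa [Finset.card_pair hab] at this
  have hφeq : φ g0 = n := by
    rw [hc] at hcg
    simp only at hcg
    rw [if_neg (by omega)] at hcg
    rcases Nat.mul_eq_zero.mp hcg with h | h
    · omega
    · have := hφn g0
      omega
  have hall : ∀ ω : Ω, g0 • ω = ω := by
    rw [hφ] at hφeq
    simp only at hφeq
    rw [← Finset.card_filter, hn, ← Finset.card_univ] at hφeq
    have := Finset.eq_of_subset_of_card_le (Finset.filter_subset _ _) (le_of_eq hφeq.symm)
    intro ω
    have hω : ω ∈ Finset.univ.filter (fun α : Ω => g0 • α = α) := by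
      rw [this]; exact Finset.mem_univ _
    exact (Finset.mem_filter.mp hω).2
  apply hg0
  apply FaithfulSMul.eq_of_smul_eq_smul (α := Ω)
  intro ω
  rw [hall ω, one_smul]

end Cfsg.Agent.Lib.Helper20
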