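import Cfsg.Agent.Lib.Helper20.M11Cent

/-!
# A subgroup of order nine of the Mathieu group of degree eleven

Nine commuting code automorphisms `a^i b^j`, with `a` centralised and `b` inverted by the
standard involution.
-/

set_option autoImplicit false

namespace Cfsg.Agent.Lib.Helper20.M11Syl3

open Cfsg.Agent.Lib.Helper4 Cfsg.Agent.Lib.Helper4.Golay Cfsg.Agent.Lib.Helper20.M11Cent

/-- The nine permutations, with their inverses. -/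
def tab9 : List (List ℕ × List ℕ) := [
  ([0, 1, 2, 3, 4, 5, 6, 7, 8, 9, 10, 11, 12, 13, 14, 15, 16, 17, 18, 19, 20, 21, 22, 23], [0, 1, 2, 3, 4, 5, 6, 7, 8, 9, 10, 11, 12, 13, 14, 15, 16, 17, 18, 19, 20, 21, 22, 23]),
  ([0, 1, 2, 8, 9, 4, 10, 13, 15, 5, 17, 22, 7, 12, 20, 3, 16, 6, 18, 19, 23, 11, 21, 14], [0, 1, 2, 15, 5, 9, 17, 12, 3, 4, 6, 21, 13, 7, 23, 8, 16, 10, 18, 19, 14, 22, 11, 20]),
  ([0, 1, 2, 15, 5, 9, 17, 12, 3, 4, 6, 21, 13, 7, 23, 8, 16, 10, 18, 19, 14, 22, 11, 20], [0, 1, 2, 8, 9, 4, 10, 13, 15, 5, 17, 22, 7, 12, 20, 3, 16, 6, 18, 19, 23, 11, 21, 14]),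
  ([0, 1, 2, 5, 6, 17, 8, 12, 4, 10, 15, 22, 13, 7, 14, 9, 19, 3, 16, 18, 20, 11, 21, 23], [0, 1, 2, 17, 8, 3, 4, 13, 6, 15, 9, 21, 7, 12, 14, 10, 18, 5, 19, 16, 20, 22, 11, 23]),
  ([0, 1, 2, 4, 10, 6, 15, 7, 9, 17, 3, 21, 12, 13, 20, 5, 19, 8, 16, 18, 23, 22, 11, 14], [0, 1, 2, 10, 3, 15, 5, 7, 17, 8, 4, 22, 12, 13, 23, 6, 18, 9, 19, 16, 14, 11, 21, 20]),
  ([0, 1, 2, 9, 17, 10, 3, 13, 5, 6, 8, 11, 7, 12, 23, 4, 19, 15, 16, 18, 14, 21, 22, 20], [0, 1, 2, 6, 15, 8, 9, 12, 10, 3, 5, 11, 13, 7, 20, 17, 18, 4, 19, 16, 23, 21, 22, 14]),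
  ([0, 1, 2, 17, 8, 3, 4, 13, 6, 15, 9, 21, 7, 12, 14, 10, 18, 5, 19, 16, 20, 22, 11, 23], [0, 1, 2, 5, 6, 17, 8, 12, 4, 10, 15, 22, 13, 7, 14, 9, 19, 3, 16, 18, 20, 11, 21, 23]),
  ([0, 1, 2, 6, 15, 8, 9, 12, 10, 3, 5, 11, 13, 7, 20, 17, 18, 4, 19, 16, 23, 21, 22, 14], [0, 1, 2, 9, 17, 10, 3, 13, 5, 6, 8, 11, 7, 12, 23, 4, 19, 15, 16, 18, 14, 21, 22, 20]),
  ([0, 1, 2, 10, 3, 15, 5, 7, 17, 8, 4, 22, 12, 13, 23, 6, 18, 9, 19, 16, 14, 11, 21, 20], [0, 1, 2, 4, 10, 6, 15, 7, 9, 17, 3, 21, 12, 13, 20, 5, 19, 8, 16, 18, 23, 22, 11, 14])]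

/-- Entry of the table. -/
def e9 (n : Fin 9) : List ℕ × List ℕ := nthP tab9 n.val

/-- The multiplication table. -/
def m9 (i j : Fin 9) : Fin 9 :=
  Fin.ofNat 9 (3 * ((i.val / 3 + j.val / 3) % 3) + (i.val % 3 + j.val % 3) % 3)

/-- The action of the standard involution. -/
def s9 (i : Fin 9) : Fin 9 := Fin.ofNat 9 (3 * (i.val / 3) + (3 - i.val % 3) % 3)

/-- Inverses. -/
def iv9 (i : Fin 9) : Fin 9 :=
  Fin.ofNat 9 (3 * ((3 - i.val / 3) % 3) + (3 - i.val % 3) % 3)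

theorem tab9_ok : ∀ n : Fin 9, chk (e9 n).1 (e9 n).2 = true ∧ memChk (e9 n).1 = true ∧
    pmL (e9 n).1 D0 = D0 ∧ nth (e9 n).1 0 = 0 ∧
    compL x0L (e9 n).1 = compL (e9 (s9 n)).1 x0L := by
  decide +kernel

theorem tab9_mul : ∀ i j : Fin 9, compL (e9 i).1 (e9 j).1 = (e9 (m9 i j)).1 := by
  decide +kernel

theorem tab9_one : ∀ k < 24, nth (e9 0).1 k = k := by decide +kernel

theorem tab9_inj : ∀ i j : Fin 9,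
    (List.range 24).all (fun k => Nat.beq (nth (e9 i).1 k) (nth (e9 j).1 k)) = true → i = j := by
  decide +kernel

theorem m9_inv : ∀ i : Fin 9, m9 i (iv9 i) = 0 := by decide +kernel

theorem m9_facts : m9 1 1 = 2 ∧ m9 3 1 = 4 ∧ m9 3 2 = 5 ∧ m9 3 3 = 6 ∧ m9 6 1 = 7 ∧ m9 6 2 = 8 ∧
    s9 3 = 3 ∧ s9 1 = 2 := by
  decide +kernel

end Cfsg.Agent.Lib.Helper20.M11Syl3
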