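import Mathlib
import Cfsg.Agent.Lib.Helper21.Subnormal

set_option autoImplicit false

namespace Cfsg.Agent.Lib.Helper20

/-- Orbit–stabilizer for a subgroup `K`, with the stabilizer taken in the ambient group. -/
theorem card_orbit_subgroup {G X : Type*} [Group G] [MulAction G X] [Finite G] (K : Subgroup G)
    (v : X) :
    Nat.card (MulAction.orbit K v) * Nat.card ↥(K ⊓ MulAction.stabilizer G v) = Nat.card K := by
  have h1 : Nat.card (MulAction.orbit K v) = (MulAction.stabilizer K v).index := by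
    rw [MulAction.index_stabilizer, Nat.card_coe_set_eq]
  have h2 : Nat.card (MulAction.stabilizer K v) = Nat.card ↥(K ⊓ MulAction.stabilizer G v) := by
    apply Nat.card_congr
    exact
      { toFun := fun k => ⟨((k : K) : G), Subgroup.mem_inf.mpr ⟨(k : K).2, k.2⟩⟩
        invFun := fun g => ⟨⟨(g : G), (Subgroup.mem_inf.mp g.2).1⟩, (Subgroup.mem_inf.mp g.2).2⟩
        left_inv := fun k => rfl
        right_inv := fun g => rfl }
  rw [h1, ← h2, mul_comm]
  exact Subgroup.card_mul_index _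

/-- Product formula `|AB| |A ∩ B| = |A| |B|` when `A` normalizes `B`. -/
theorem card_sup_mul_card_inf_of_le_normalizer {G : Type*} [Group G] [Finite G] {A B : Subgroup G}
    (hAB : A ≤ Subgroup.normalizer (B : Set G)) :
    Nat.card ↥(A ⊔ B) * Nat.card ↥(A ⊓ B) = Nat.card A * Nat.card B := by
  have hJ : A ⊔ B ≤ Subgroup.normalizer (B : Set G) := sup_le hAB Subgroup.le_normalizer
  have hn : (B.subgroupOf (A ⊔ B)).Normal := Subgroup.normal_subgroupOf_of_le_normalizer hJ
  have h1 := Cfsg.Agent.Lib.Helper21.card_sup_mul_card_inf (A.subgroupOf (A ⊔ B))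
    (B.subgroupOf (A ⊔ B))
  rw [← Subgroup.subgroupOf_sup le_sup_left le_sup_right, Subgroup.subgroupOf_self] at h1
  have e1 : Nat.card (A.subgroupOf (A ⊔ B)) = Nat.card A :=
    Nat.card_congr (Subgroup.subgroupOfEquivOfLe (le_sup_left : A ≤ A ⊔ B)).toEquiv
  have e2 : Nat.card (B.subgroupOf (A ⊔ B)) = Nat.card B :=
    Nat.card_congr (Subgroup.subgroupOfEquivOfLe (le_sup_right : B ≤ A ⊔ B)).toEquiv
  have e3 : Nat.card (⊤ : Subgroup ↥(A ⊔ B)) = Nat.card ↥(A ⊔ B) :=
    Nat.card_congr Subgroup.topEquiv.toEquiv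
  have e4 : Nat.card ↥(A.subgroupOf (A ⊔ B) ⊓ B.subgroupOf (A ⊔ B)) = Nat.card ↥(A ⊓ B) := by
    have h5 : A.subgroupOf (A ⊔ B) ⊓ B.subgroupOf (A ⊔ B) = (A ⊓ B).subgroupOf (A ⊔ B) :=
      (Subgroup.comap_inf _ _ _).symm
    rw [h5]
    exact Nat.card_congr
      (Subgroup.subgroupOfEquivOfLe ((inf_le_left : A ⊓ B ≤ A).trans le_sup_left)).toEquiv
  rw [e1, e2, e3, e4] at h1
  exact h1

/-- If `H` normalizes `K ≤ H`, the `K`-orbit of a point has size dividing that of its `H`-orbit. -/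
theorem orbit_card_dvd_of_normal {G X : Type*} [Group G] [MulAction G X] [Finite G]
    (K H : Subgroup G) (hKH : K ≤ H) (hn : H ≤ Subgroup.normalizer (K : Set G)) (v : X) :
    Nat.card (MulAction.orbit K v) ∣ Nat.card (MulAction.orbit H v) := by
  have hK := card_orbit_subgroup K v
  have hH := card_orbit_subgroup H v
  have hLn : H ⊓ MulAction.stabilizer G v ≤ Subgroup.normalizer (K : Set G) := inf_le_left.trans hn
  have hprod := card_sup_mul_card_inf_of_le_normalizer hLn
  have hinf : (H ⊓ MulAction.stabilizer G v) ⊓ K = K ⊓ MulAction.stabilizer G v := by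
    rw [inf_comm, ← inf_assoc, inf_of_le_left hKH]
  rw [hinf] at hprod
  have hle : (H ⊓ MulAction.stabilizer G v) ⊔ K ≤ H := sup_le inf_le_left hKH
  have hdvd : Nat.card ↥((H ⊓ MulAction.stabilizer G v) ⊔ K) ∣ Nat.card H :=
    Subgroup.card_dvd_of_le hle
  have hpos : 0 < Nat.card ↥(K ⊓ MulAction.stabilizer G v) := Nat.card_pos
  have hpos2 : 0 < Nat.card ↥(H ⊓ MulAction.stabilizer G v) := Nat.card_pos
  have h1 : Nat.card ↥((H ⊓ MulAction.stabilizer G v) ⊔ K) =
      Nat.card ↥(H ⊓ MulAction.stabilizer G v) * Nat.card (MulAction.orbit K v) := by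
    apply Nat.eq_of_mul_eq_mul_right hpos
    rw [hprod, ← hK]; ring
  rw [h1, ← hH, mul_comm] at hdvd
  exact Nat.dvd_of_mul_dvd_mul_right hpos2 hdvd

/-- If `H` normalizes `N`, the `NH`-orbit of a point has size dividing `|vH| * |N|`. -/
theorem orbit_card_dvd_of_sup {G X : Type*} [Group G] [MulAction G X] [Finite G]
    (N H : Subgroup G) (hn : H ≤ Subgroup.normalizer (N : Set G)) (v : X) :
    Nat.card (MulAction.orbit ↥(N ⊔ H) v) ∣ Nat.card (MulAction.orbit H v) * Nat.card N := by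
  have hJ := card_orbit_subgroup (N ⊔ H) v
  have hH := card_orbit_subgroup H v
  have hdvd : Nat.card ↥(H ⊔ N) ∣ Nat.card H * Nat.card N :=
    Cfsg.Agent.Lib.Helper21.card_sup_dvd_of_le_normalizer hn
  rw [sup_comm] at hdvd
  have hle : H ⊓ MulAction.stabilizer G v ≤ (N ⊔ H) ⊓ MulAction.stabilizer G v :=
    inf_le_inf_right _ le_sup_right
  obtain ⟨m, hm⟩ := Subgroup.card_dvd_of_le hle
  rw [← hJ, ← hH, hm] at hdvd
  have hpos2 : 0 < Nat.card ↥(H ⊓ MulAction.stabilizer G v) := Nat.card_pos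
  have h2 : Nat.card (MulAction.orbit ↥(N ⊔ H) v) * m * Nat.card ↥(H ⊓ MulAction.stabilizer G v) ∣
      Nat.card (MulAction.orbit H v) * Nat.card N * Nat.card ↥(H ⊓ MulAction.stabilizer G v) := by
    convert hdvd using 1 <;> ring
  have h3 := Nat.dvd_of_mul_dvd_mul_right hpos2 h2
  exact (Dvd.intro _ rfl).trans h3

end Cfsg.Agent.Lib.Helper20
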