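import Cfsg.Agent.Lib.Helper4.Sx4
import Cfsg.Agent.Lib.Helper28.M24Orb

set_option autoImplicit false

namespace Cfsg.Agent.Lib.Helper20.TrioData

open Cfsg.Agent.Lib.Helper4 Cfsg.Agent.Lib.Helper4.Golay Cfsg.Agent.Lib.Helper4.Sx
  Cfsg.Agent.Lib.Helper28

/-- The first octad of the standard trio. -/
def o1 : ℕ := 5279
/-- The second octad of the standard trio. -/
def o2 : ℕ := 4038912
/-- The third octad of the standard trio. -/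
def o3 : ℕ := 12733024
/-- The standard trio. -/
def c0 : ℕ × ℕ × ℕ := (o1, o2, o3)

/-- The seven sextets refining the standard trio (the tetrad through the first point first). -/
def r7 : List (List ℕ) := [
  [15, 5264, 622848, 3416064, 4196928, 8536096],
  [4115, 1164, 1409024, 2629888, 4212768, 8520256],
  [1155, 4124, 16992, 1835264, 2203648, 12716032],
  [1045, 4234, 303360, 3735552, 4342272, 8390752],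
  [4229, 1050, 149568, 860160, 3178752, 12583456],
  [153, 5126, 133664, 1122560, 2916352, 12599360],
  [5129, 150, 1613824, 2425088, 4325472, 8407552]]

set_option maxRecDepth 100000 in
/-- The elements fixing the three octads and the seven sextets. -/
def nTab : List (List ℕ × List ℕ) := [
  ([0, 1, 2, 3, 4, 5, 6, 7, 8, 9, 10, 11, 12, 13, 14, 15, 16, 17, 18, 19, 20, 21, 22, 23], [0, 1, 2, 3, 4, 5, 6, 7, 8, 9, 10, 11, 12, 13, 14, 15, 16, 17, 18, 19, 20, 21, 22, 23]),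
  ([0, 1, 2, 3, 4, 6, 5, 7, 18, 14, 10, 23, 12, 15, 9, 13, 21, 22, 8, 20, 19, 16, 17, 11], [0, 1, 2, 3, 4, 6, 5, 7, 18, 14, 10, 23, 12, 15, 9, 13, 21, 22, 8, 20, 19, 16, 17, 11]),
  ([0, 1, 2, 3, 4, 9, 14, 7, 20, 5, 10, 17, 12, 16, 6, 21, 13, 11, 19, 18, 8, 15, 23, 22], [0, 1, 2, 3, 4, 9, 14, 7, 20, 5, 10, 17, 12, 16, 6, 21, 13, 11, 19, 18, 8, 15, 23, 22]),
  ([0, 1, 2, 3, 4, 11, 23, 7, 13, 17, 10, 5, 12, 8, 22, 18, 20, 9, 15, 21, 16, 19, 14, 6], [0, 1, 2, 3, 4, 11, 23, 7, 13, 17, 10, 5, 12, 8, 22, 18, 20, 9, 15, 21, 16, 19, 14, 6]),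
  ([0, 1, 2, 3, 4, 14, 9, 7, 19, 6, 10, 22, 12, 21, 5, 16, 15, 23, 20, 8, 18, 13, 11, 17], [0, 1, 2, 3, 4, 14, 9, 7, 19, 6, 10, 22, 12, 21, 5, 16, 15, 23, 20, 8, 18, 13, 11, 17]),
  ([0, 1, 2, 3, 4, 17, 22, 7, 16, 11, 10, 9, 12, 20, 23, 19, 8, 5, 21, 15, 13, 18, 6, 14], [0, 1, 2, 3, 4, 17, 22, 7, 16, 11, 10, 9, 12, 20, 23, 19, 8, 5, 21, 15, 13, 18, 6, 14]),
  ([0, 1, 2, 3, 4, 22, 17, 7, 21, 23, 10, 14, 12, 19, 11, 20, 18, 6, 16, 13, 15, 8, 5, 9], [0, 1, 2, 3, 4, 22, 17, 7, 21, 23, 10, 14, 12, 19, 11, 20, 18, 6, 16, 13, 15, 8, 5, 9]),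
  ([0, 1, 2, 3, 4, 23, 11, 7, 15, 22, 10, 6, 12, 18, 17, 8, 19, 14, 13, 16, 21, 20, 9, 5], [0, 1, 2, 3, 4, 23, 11, 7, 15, 22, 10, 6, 12, 18, 17, 8, 19, 14, 13, 16, 21, 20, 9, 5]),
  ([1, 0, 3, 2, 12, 5, 6, 10, 19, 9, 7, 11, 4, 21, 14, 16, 15, 17, 20, 8, 18, 13, 22, 23], [1, 0, 3, 2, 12, 5, 6, 10, 19, 9, 7, 11, 4, 21, 14, 16, 15, 17, 20, 8, 18, 13, 22, 23]),
  ([1, 0, 3, 2, 12, 6, 5, 10, 20, 14, 7, 23, 4, 16, 9, 21, 13, 22, 19, 18, 8, 15, 17, 11], [1, 0, 3, 2, 12, 6, 5, 10, 20, 14, 7, 23, 4, 16, 9, 21, 13, 22, 19, 18, 8, 15, 17, 11]),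
  ([1, 0, 3, 2, 12, 9, 14, 10, 18, 5, 7, 17, 4, 15, 6, 13, 21, 11, 8, 20, 19, 16, 23, 22], [1, 0, 3, 2, 12, 9, 14, 10, 18, 5, 7, 17, 4, 15, 6, 13, 21, 11, 8, 20, 19, 16, 23, 22]),
  ([1, 0, 3, 2, 12, 11, 23, 10, 21, 17, 7, 5, 4, 19, 22, 20, 18, 9, 16, 13, 15, 8, 14, 6], [1, 0, 3, 2, 12, 11, 23, 10, 21, 17, 7, 5, 4, 19, 22, 20, 18, 9, 16, 13, 15, 8, 14, 6]),
  ([1, 0, 3, 2, 12, 14, 9, 10, 8, 6, 7, 22, 4, 13, 5, 15, 16, 23, 18, 19, 20, 21, 11, 17], [1, 0, 3, 2, 12, 14, 9, 10, 8, 6, 7, 22, 4, 13, 5, 15, 16, 23, 18, 19, 20, 21, 11, 17]),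
  ([1, 0, 3, 2, 12, 17, 22, 10, 15, 11, 7, 9, 4, 18, 23, 8, 19, 5, 13, 16, 21, 20, 6, 14], [1, 0, 3, 2, 12, 17, 22, 10, 15, 11, 7, 9, 4, 18, 23, 8, 19, 5, 13, 16, 21, 20, 6, 14]),
  ([1, 0, 3, 2, 12, 22, 17, 10, 13, 23, 7, 14, 4, 8, 11, 18, 20, 6, 15, 21, 16, 19, 5, 9], [1, 0, 3, 2, 12, 22, 17, 10, 13, 23, 7, 14, 4, 8, 11, 18, 20, 6, 15, 21, 16, 19, 5, 9]),
  ([1, 0, 3, 2, 12, 23, 11, 10, 16, 22, 7, 6, 4, 20, 17, 19, 8, 14, 21, 15, 13, 18, 9, 5], [1, 0, 3, 2, 12, 23, 11, 10, 16, 22, 7, 6, 4, 20, 17, 19, 8, 14, 21, 15, 13, 18, 9, 5]),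
  ([2, 3, 0, 1, 10, 5, 6, 12, 15, 9, 4, 11, 7, 18, 14, 8, 19, 17, 13, 16, 21, 20, 22, 23], [2, 3, 0, 1, 10, 5, 6, 12, 15, 9, 4, 11, 7, 18, 14, 8, 19, 17, 13, 16, 21, 20, 22, 23]),
  ([2, 3, 0, 1, 10, 6, 5, 12, 13, 14, 4, 23, 7, 8, 9, 18, 20, 22, 15, 21, 16, 19, 17, 11], [2, 3, 0, 1, 10, 6, 5, 12, 13, 14, 4, 23, 7, 8, 9, 18, 20, 22, 15, 21, 16, 19, 17, 11]),
  ([2, 3, 0, 1, 10, 9, 14, 12, 21, 5, 4, 17, 7, 19, 6, 20, 18, 11, 16, 13, 15, 8, 23, 22], [2, 3, 0, 1, 10, 9, 14, 12, 21, 5, 4, 17, 7, 19, 6, 20, 18, 11, 16, 13, 15, 8, 23, 22]),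
  ([2, 3, 0, 1, 10, 11, 23, 12, 18, 17, 4, 5, 7, 15, 22, 13, 21, 9, 8, 20, 19, 16, 14, 6], [2, 3, 0, 1, 10, 11, 23, 12, 18, 17, 4, 5, 7, 15, 22, 13, 21, 9, 8, 20, 19, 16, 14, 6]),
  ([2, 3, 0, 1, 10, 14, 9, 12, 16, 6, 4, 22, 7, 20, 5, 19, 8, 23, 21, 15, 13, 18, 11, 17], [2, 3, 0, 1, 10, 14, 9, 12, 16, 6, 4, 22, 7, 20, 5, 19, 8, 23, 21, 15, 13, 18, 11, 17]),
  ([2, 3, 0, 1, 10, 17, 22, 12, 19, 11, 4, 9, 7, 21, 23, 16, 15, 5, 20, 8, 18, 13, 6, 14], [2, 3, 0, 1, 10, 17, 22, 12, 19, 11, 4, 9, 7, 21, 23, 16, 15, 5, 20, 8, 18, 13, 6, 14]),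
  ([2, 3, 0, 1, 10, 22, 17, 12, 20, 23, 4, 14, 7, 16, 11, 21, 13, 6, 19, 18, 8, 15, 5, 9], [2, 3, 0, 1, 10, 22, 17, 12, 20, 23, 4, 14, 7, 16, 11, 21, 13, 6, 19, 18, 8, 15, 5, 9]),
  ([2, 3, 0, 1, 10, 23, 11, 12, 8, 22, 4, 6, 7, 13, 17, 15, 16, 14, 18, 19, 20, 21, 9, 5], [2, 3, 0, 1, 10, 23, 11, 12, 8, 22, 4, 6, 7, 13, 17, 15, 16, 14, 18, 19, 20, 21, 9, 5]),
  ([3, 2, 1, 0, 7, 5, 6, 4, 16, 9, 12, 11, 10, 20, 14, 19, 8, 17, 21, 15, 13, 18, 22, 23], [3, 2, 1, 0, 7, 5, 6, 4, 16, 9, 12, 11, 10, 20, 14, 19, 8, 17, 21, 15, 13, 18, 22, 23]),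
  ([3, 2, 1, 0, 7, 6, 5, 4, 21, 14, 12, 23, 10, 19, 9, 20, 18, 22, 16, 13, 15, 8, 17, 11], [3, 2, 1, 0, 7, 6, 5, 4, 21, 14, 12, 23, 10, 19, 9, 20, 18, 22, 16, 13, 15, 8, 17, 11]),
  ([3, 2, 1, 0, 7, 9, 14, 4, 13, 5, 12, 17, 10, 8, 6, 18, 20, 11, 15, 21, 16, 19, 23, 22], [3, 2, 1, 0, 7, 9, 14, 4, 13, 5, 12, 17, 10, 8, 6, 18, 20, 11, 15, 21, 16, 19, 23, 22]),
  ([3, 2, 1, 0, 7, 11, 23, 4, 20, 17, 12, 5, 10, 16, 22, 21, 13, 9, 19, 18, 8, 15, 14, 6], [3, 2, 1, 0, 7, 11, 23, 4, 20, 17, 12, 5, 10, 16, 22, 21, 13, 9, 19, 18, 8, 15, 14, 6]),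
  ([3, 2, 1, 0, 7, 14, 9, 4, 15, 6, 12, 22, 10, 18, 5, 8, 19, 23, 13, 16, 21, 20, 11, 17], [3, 2, 1, 0, 7, 14, 9, 4, 15, 6, 12, 22, 10, 18, 5, 8, 19, 23, 13, 16, 21, 20, 11, 17]),
  ([3, 2, 1, 0, 7, 17, 22, 4, 8, 11, 12, 9, 10, 13, 23, 15, 16, 5, 18, 19, 20, 21, 6, 14], [3, 2, 1, 0, 7, 17, 22, 4, 8, 11, 12, 9, 10, 13, 23, 15, 16, 5, 18, 19, 20, 21, 6, 14]),
  ([3, 2, 1, 0, 7, 22, 17, 4, 18, 23, 12, 14, 10, 15, 11, 13, 21, 6, 8, 20, 19, 16, 5, 9], [3, 2, 1, 0, 7, 22, 17, 4, 18, 23, 12, 14, 10, 15, 11, 13, 21, 6, 8, 20, 19, 16, 5, 9]),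
  ([3, 2, 1, 0, 7, 23, 11, 4, 19, 22, 12, 6, 10, 21, 17, 16, 15, 14, 20, 8, 18, 13, 9, 5], [3, 2, 1, 0, 7, 23, 11, 4, 19, 22, 12, 6, 10, 21, 17, 16, 15, 14, 20, 8, 18, 13, 9, 5]),
  ([4, 12, 10, 7, 0, 5, 6, 3, 13, 9, 2, 11, 1, 8, 14, 18, 20, 17, 15, 21, 16, 19, 22, 23], [4, 12, 10, 7, 0, 5, 6, 3, 13, 9, 2, 11, 1, 8, 14, 18, 20, 17, 15, 21, 16, 19, 22, 23]),
  ([4, 12, 10, 7, 0, 6, 5, 3, 15, 14, 2, 23, 1, 18, 9, 8, 19, 22, 13, 16, 21, 20, 17, 11], [4, 12, 10, 7, 0, 6, 5, 3, 15, 14, 2, 23, 1, 18, 9, 8, 19, 22, 13, 16, 21, 20, 17, 11]),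
  ([4, 12, 10, 7, 0, 9, 14, 3, 16, 5, 2, 17, 1, 20, 6, 19, 8, 11, 21, 15, 13, 18, 23, 22], [4, 12, 10, 7, 0, 9, 14, 3, 16, 5, 2, 17, 1, 20, 6, 19, 8, 11, 21, 15, 13, 18, 23, 22]),
  ([4, 12, 10, 7, 0, 11, 23, 3, 8, 17, 2, 5, 1, 13, 22, 15, 16, 9, 18, 19, 20, 21, 14, 6], [4, 12, 10, 7, 0, 11, 23, 3, 8, 17, 2, 5, 1, 13, 22, 15, 16, 9, 18, 19, 20, 21, 14, 6]),
  ([4, 12, 10, 7, 0, 14, 9, 3, 21, 6, 2, 22, 1, 19, 5, 20, 18, 23, 16, 13, 15, 8, 11, 17], [4, 12, 10, 7, 0, 14, 9, 3, 21, 6, 2, 22, 1, 19, 5, 20, 18, 23, 16, 13, 15, 8, 11, 17]),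
  ([4, 12, 10, 7, 0, 17, 22, 3, 20, 11, 2, 9, 1, 16, 23, 21, 13, 5, 19, 18, 8, 15, 6, 14], [4, 12, 10, 7, 0, 17, 22, 3, 20, 11, 2, 9, 1, 16, 23, 21, 13, 5, 19, 18, 8, 15, 6, 14]),
  ([4, 12, 10, 7, 0, 22, 17, 3, 19, 23, 2, 14, 1, 21, 11, 16, 15, 6, 20, 8, 18, 13, 5, 9], [4, 12, 10, 7, 0, 22, 17, 3, 19, 23, 2, 14, 1, 21, 11, 16, 15, 6, 20, 8, 18, 13, 5, 9]),
  ([4, 12, 10, 7, 0, 23, 11, 3, 18, 22, 2, 6, 1, 15, 17, 13, 21, 14, 8, 20, 19, 16, 9, 5], [4, 12, 10, 7, 0, 23, 11, 3, 18, 22, 2, 6, 1, 15, 17, 13, 21, 14, 8, 20, 19, 16, 9, 5]),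
  ([7, 10, 12, 4, 3, 5, 6, 0, 20, 9, 1, 11, 2, 16, 14, 21, 13, 17, 19, 18, 8, 15, 22, 23], [7, 10, 12, 4, 3, 5, 6, 0, 20, 9, 1, 11, 2, 16, 14, 21, 13, 17, 19, 18, 8, 15, 22, 23]),
  ([7, 10, 12, 4, 3, 6, 5, 0, 19, 14, 1, 23, 2, 21, 9, 16, 15, 22, 20, 8, 18, 13, 17, 11], [7, 10, 12, 4, 3, 6, 5, 0, 19, 14, 1, 23, 2, 21, 9, 16, 15, 22, 20, 8, 18, 13, 17, 11]),
  ([7, 10, 12, 4, 3, 9, 14, 0, 8, 5, 1, 17, 2, 13, 6, 15, 16, 11, 18, 19, 20, 21, 23, 22], [7, 10, 12, 4, 3, 9, 14, 0, 8, 5, 1, 17, 2, 13, 6, 15, 16, 11, 18, 19, 20, 21, 23, 22]),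
  ([7, 10, 12, 4, 3, 11, 23, 0, 16, 17, 1, 5, 2, 20, 22, 19, 8, 9, 21, 15, 13, 18, 14, 6], [7, 10, 12, 4, 3, 11, 23, 0, 16, 17, 1, 5, 2, 20, 22, 19, 8, 9, 21, 15, 13, 18, 14, 6]),
  ([7, 10, 12, 4, 3, 14, 9, 0, 18, 6, 1, 22, 2, 15, 5, 13, 21, 23, 8, 20, 19, 16, 11, 17], [7, 10, 12, 4, 3, 14, 9, 0, 18, 6, 1, 22, 2, 15, 5, 13, 21, 23, 8, 20, 19, 16, 11, 17]),
  ([7, 10, 12, 4, 3, 17, 22, 0, 13, 11, 1, 9, 2, 8, 23, 18, 20, 5, 15, 21, 16, 19, 6, 14], [7, 10, 12, 4, 3, 17, 22, 0, 13, 11, 1, 9, 2, 8, 23, 18, 20, 5, 15, 21, 16, 19, 6, 14]),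
  ([7, 10, 12, 4, 3, 22, 17, 0, 15, 23, 1, 14, 2, 18, 11, 8, 19, 6, 13, 16, 21, 20, 5, 9], [7, 10, 12, 4, 3, 22, 17, 0, 15, 23, 1, 14, 2, 18, 11, 8, 19, 6, 13, 16, 21, 20, 5, 9]),
  ([7, 10, 12, 4, 3, 23, 11, 0, 21, 22, 1, 6, 2, 19, 17, 20, 18, 14, 16, 13, 15, 8, 9, 5], [7, 10, 12, 4, 3, 23, 11, 0, 21, 22, 1, 6, 2, 19, 17, 20, 18, 14, 16, 13, 15, 8, 9, 5]),
  ([10, 7, 4, 12, 2, 5, 6, 1, 18, 9, 0, 11, 3, 15, 14, 13, 21, 17, 8, 20, 19, 16, 22, 23], [10, 7, 4, 12, 2, 5, 6, 1, 18, 9, 0, 11, 3, 15, 14, 13, 21, 17, 8, 20, 19, 16, 22, 23]),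
  ([10, 7, 4, 12, 2, 6, 5, 1, 8, 14, 0, 23, 3, 13, 9, 15, 16, 22, 18, 19, 20, 21, 17, 11], [10, 7, 4, 12, 2, 6, 5, 1, 8, 14, 0, 23, 3, 13, 9, 15, 16, 22, 18, 19, 20, 21, 17, 11]),
  ([10, 7, 4, 12, 2, 9, 14, 1, 19, 5, 0, 17, 3, 21, 6, 16, 15, 11, 20, 8, 18, 13, 23, 22], [10, 7, 4, 12, 2, 9, 14, 1, 19, 5, 0, 17, 3, 21, 6, 16, 15, 11, 20, 8, 18, 13, 23, 22]),
  ([10, 7, 4, 12, 2, 11, 23, 1, 15, 17, 0, 5, 3, 18, 22, 8, 19, 9, 13, 16, 21, 20, 14, 6], [10, 7, 4, 12, 2, 11, 23, 1, 15, 17, 0, 5, 3, 18, 22, 8, 19, 9, 13, 16, 21, 20, 14, 6]),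
  ([10, 7, 4, 12, 2, 14, 9, 1, 20, 6, 0, 22, 3, 16, 5, 21, 13, 23, 19, 18, 8, 15, 11, 17], [10, 7, 4, 12, 2, 14, 9, 1, 20, 6, 0, 22, 3, 16, 5, 21, 13, 23, 19, 18, 8, 15, 11, 17]),
  ([10, 7, 4, 12, 2, 17, 22, 1, 21, 11, 0, 9, 3, 19, 23, 20, 18, 5, 16, 13, 15, 8, 6, 14], [10, 7, 4, 12, 2, 17, 22, 1, 21, 11, 0, 9, 3, 19, 23, 20, 18, 5, 16, 13, 15, 8, 6, 14]),
  ([10, 7, 4, 12, 2, 22, 17, 1, 16, 23, 0, 14, 3, 20, 11, 19, 8, 6, 21, 15, 13, 18, 5, 9], [10, 7, 4, 12, 2, 22, 17, 1, 16, 23, 0, 14, 3, 20, 11, 19, 8, 6, 21, 15, 13, 18, 5, 9]),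
  ([10, 7, 4, 12, 2, 23, 11, 1, 13, 22, 0, 6, 3, 8, 17, 18, 20, 14, 15, 21, 16, 19, 9, 5], [10, 7, 4, 12, 2, 23, 11, 1, 13, 22, 0, 6, 3, 8, 17, 18, 20, 14, 15, 21, 16, 19, 9, 5]),
  ([12, 4, 7, 10, 1, 5, 6, 2, 21, 9, 3, 11, 0, 19, 14, 20, 18, 17, 16, 13, 15, 8, 22, 23], [12, 4, 7, 10, 1, 5, 6, 2, 21, 9, 3, 11, 0, 19, 14, 20, 18, 17, 16, 13, 15, 8, 22, 23]),
  ([12, 4, 7, 10, 1, 6, 5, 2, 16, 14, 3, 23, 0, 20, 9, 19, 8, 22, 21, 15, 13, 18, 17, 11], [12, 4, 7, 10, 1, 6, 5, 2, 16, 14, 3, 23, 0, 20, 9, 19, 8, 22, 21, 15, 13, 18, 17, 11]),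
  ([12, 4, 7, 10, 1, 9, 14, 2, 15, 5, 3, 17, 0, 18, 6, 8, 19, 11, 13, 16, 21, 20, 23, 22], [12, 4, 7, 10, 1, 9, 14, 2, 15, 5, 3, 17, 0, 18, 6, 8, 19, 11, 13, 16, 21, 20, 23, 22]),
  ([12, 4, 7, 10, 1, 11, 23, 2, 19, 17, 3, 5, 0, 21, 22, 16, 15, 9, 20, 8, 18, 13, 14, 6], [12, 4, 7, 10, 1, 11, 23, 2, 19, 17, 3, 5, 0, 21, 22, 16, 15, 9, 20, 8, 18, 13, 14, 6]),
  ([12, 4, 7, 10, 1, 14, 9, 2, 13, 6, 3, 22, 0, 8, 5, 18, 20, 23, 15, 21, 16, 19, 11, 17], [12, 4, 7, 10, 1, 14, 9, 2, 13, 6, 3, 22, 0, 8, 5, 18, 20, 23, 15, 21, 16, 19, 11, 17]),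
  ([12, 4, 7, 10, 1, 17, 22, 2, 18, 11, 3, 9, 0, 15, 23, 13, 21, 5, 8, 20, 19, 16, 6, 14], [12, 4, 7, 10, 1, 17, 22, 2, 18, 11, 3, 9, 0, 15, 23, 13, 21, 5, 8, 20, 19, 16, 6, 14]),
  ([12, 4, 7, 10, 1, 22, 17, 2, 8, 23, 3, 14, 0, 13, 11, 15, 16, 6, 18, 19, 20, 21, 5, 9], [12, 4, 7, 10, 1, 22, 17, 2, 8, 23, 3, 14, 0, 13, 11, 15, 16, 6, 18, 19, 20, 21, 5, 9]),
  ([12, 4, 7, 10, 1, 23, 11, 2, 20, 22, 3, 6, 0, 16, 17, 21, 13, 14, 19, 18, 8, 15, 9, 5], [12, 4, 7, 10, 1, 23, 11, 2, 20, 22, 3, 6, 0, 16, 17, 21, 13, 14, 19, 18, 8, 15, 9, 5])]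

set_option maxRecDepth 100000 in
/-- Elements swapping two octads of the standard trio, fixing the third and the seven sextets. -/
def swTab : List (List ℕ × List ℕ) := [
  ([8, 19, 15, 16, 13, 5, 6, 20, 0, 9, 18, 11, 21, 4, 14, 2, 3, 17, 10, 1, 7, 12, 22, 23], [8, 19, 15, 16, 13, 5, 6, 20, 0, 9, 18, 11, 21, 4, 14, 2, 3, 17, 10, 1, 7, 12, 22, 23]),
  ([5, 14, 23, 17, 11, 0, 10, 9, 8, 7, 6, 4, 22, 13, 1, 15, 16, 3, 18, 19, 20, 21, 12, 2], [5, 14, 23, 17, 11, 0, 10, 9, 8, 7, 6, 4, 22, 13, 1, 15, 16, 3, 18, 19, 20, 21, 12, 2]),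
  ([0, 1, 2, 3, 4, 8, 18, 7, 5, 20, 10, 13, 12, 11, 19, 23, 17, 16, 6, 14, 9, 22, 21, 15], [0, 1, 2, 3, 4, 8, 18, 7, 5, 20, 10, 13, 12, 11, 19, 23, 17, 16, 6, 14, 9, 22, 21, 15])]

/-- Entry of the table of the normal subgroup. -/
def nE (i : ℕ) : List ℕ × List ℕ := nthP nTab i

/-- The list squares to the identity list. -/
def sqB (l : List ℕ) : Bool := (List.range 24).all (fun x => Nat.beq (nth l (nth l x)) x)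

/-- Two lists differ at some position. -/
def diffB (l m : List ℕ) : Bool :=
  (List.range 24).any (fun x => not (Nat.beq (nth l x) (nth m x)))

/-- A list of masks refines the standard trio. -/
def refB (L : List ℕ) : Bool :=
  [o1, o2, o3].all (fun o => L.any (fun a => L.any (fun b => Nat.beq (a ||| b) o)))

/-- The check classifying the tetrads through the first point of refining sextets. -/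
def clsChk (a : ℕ) : Bool :=
  or (not (and (and (Nat.beq (pc a) 8) (Nat.beq (pc (a &&& o3)) 0))
    (and (a.testBit 0) (Nat.beq (pc (a &&& o1)) 4))))
    (r7.any (fun L => Nat.beq (nth L 0) (a &&& o1)))

theorem c0_ok : trioChk c0 = true := by decide +kernel

set_option maxRecDepth 100000 in
theorem r7_ok : r7.all (fun L => and (and (sextChk L) (refB L))
    (L.any (fun b => Nat.beq b (nth L 0)))) = true := by decide +kernel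

set_option maxRecDepth 100000 in
theorem r7_dist : r7.all (fun L => r7.all (fun L' => or (listBeq L L')
    (not (L'.any (fun b => Nat.beq b (nth L 0)))))) = true := by decide +kernel

theorem r7_nodup : r7.Nodup := by decide +kernel

theorem r7_length : r7.length = 7 := by decide +kernel

set_option maxRecDepth 100000 in
theorem cls_ok : allComb clsChk basis 0 = true := by decide +kernel

set_option maxRecDepth 100000 in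
theorem pair_ok : ∀ c ∈ [1, 2, 3, 4, 7, 10, 12], ∃ L ∈ r7, ∃ L' ∈ r7,
    nth L 0 &&& nth L' 0 = 1 + 2 ^ c := by decide +kernel

set_option maxRecDepth 100000 in
theorem nTab_ok : (List.range 64).all (fun i => and (and (chk (nE i).1 (nE i).2)
    (memChk (nE i).1)) (and ([o1, o2, o3].all (fun b => Nat.beq (pmL (nE i).1 b) b))
    (r7.all (fun L => L.all (fun a => L.any (fun b => Nat.beq (pmL (nE i).1 a) b)))))) = true := by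
  decide +kernel

set_option maxRecDepth 100000 in
theorem nTab_diff : (List.range 64).all (fun i => (List.range 64).all (fun j =>
    or (Nat.beq i j) (diffB (nE i).1 (nE j).1))) = true := by
  decide +kernel

set_option maxRecDepth 100000 in
theorem nTab_sq : (List.range 64).all (fun i => sqB (nE i).1) = true := by
  decide +kernel

set_option maxRecDepth 100000 in
theorem swTab_ok : ∀ a ∈ [o1, o2, o3], ∀ b ∈ [o1, o2, o3], a ≠ b → ∃ e ∈ swTab,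
    chk e.1 e.2 = true ∧ memChk e.1 = true ∧ pmL e.1 a = b ∧ pmL e.1 b = a ∧
    (∀ c ∈ [o1, o2, o3], c ≠ a → c ≠ b → pmL e.1 c = c) ∧
    ∀ L ∈ r7, ∀ x ∈ L, pmL e.1 x ∈ L := by
  decide +kernel

end Cfsg.Agent.Lib.Helper20.TrioData
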